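import Mathlib
import Groth.Agent.Lib.Helper5.BlowGr.ChartAlg

/-!
# Base change of the chart algebras of the blow-up of an `H_1`-regular sequence (helper5)

If the image `f'` of `f` in an `R`-algebra `R'` is again `H_1`-regular, then `f_{j₀}` is a
nonzerodivisor of `Q ⊗_R R'`, `Q = R[x_a]/(f_{ι a} + x_a f_{j₀})`.
-/

set_option autoImplicit false
universe u
open MvPolynomial TensorProduct

noncomputable section

namespace Groth.Agent.Lib.Helper5.BlowBC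

open Groth.Agent.Lib.Helper5.Grass.GrChartAlg Groth.Agent.Lib.Helper5.BlowGr

section BC
variable {R R' : Type u} [CommRing R] [CommRing R'] [Algebra R R'] {n q : ℕ}
  (ι : Fin q → Fin n) (hι : Function.Injective ι)
  (j₀ : Fin n) (hj : ∀ l, l ∈ Set.range ι ↔ l ≠ j₀) (f : Fin n → R)

/-- the image of the sequence -/
abbrev fbc : Fin n → R' := fun l => algebraMap R R' (f l)

/-- the chart algebra over `R'` -/
abbrev Qbc : Type u := PR R' ι ⧸ J₀ ι j₀ hj (fbc (R' := R') f)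

/-- `R[x] → R'[x]/J'` -/
def θ₀ : PR R ι →ₐ[R] Qbc (R' := R') ι j₀ hj f :=
  aeval (fun v => Ideal.Quotient.mk _ (X v))

theorem θ₀_C (r : R) :
    θ₀ (R' := R') ι j₀ hj f (C r) = Ideal.Quotient.mk _ (C (algebraMap R R' r)) := by
  rw [θ₀, ← MvPolynomial.algebraMap_eq, AlgHom.commutes]
  rw [IsScalarTower.algebraMap_apply R R' (Qbc (R' := R') ι j₀ hj f)]
  rfl

theorem θ₀_X (v : Var ι) :
    θ₀ (R' := R') ι j₀ hj f (X v) = Ideal.Quotient.mk _ (X v) := by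
  rw [θ₀, aeval_X]

theorem θ₀_rel (a : Fin q) : θ₀ (R' := R') ι j₀ hj f (rel ι j₀ hj f a) = 0 := by
  simp only [rel, map_add, map_mul, θ₀_C, θ₀_X]
  rw [← map_mul, ← map_add, Ideal.Quotient.eq_zero_iff_mem]
  exact Ideal.subset_span ⟨a, rfl⟩

theorem θ₀_J₀ : J₀ ι j₀ hj f ≤ RingHom.ker (θ₀ (R' := R') ι j₀ hj f).toRingHom := by
  unfold J₀
  rw [Ideal.span_le]
  rintro _ ⟨a, rfl⟩
  exact θ₀_rel ι j₀ hj f a

variable {Q : Type u} [CommRing Q] [Algebra R Q] (π : PR R ι →ₐ[R] Q)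
  (hπ : Function.Surjective π) (hker : RingHom.ker π.toRingHom = J₀ ι j₀ hj f)

/-- `Q → R'[x]/J'` -/
def θ : Q →ₐ[R] Qbc (R' := R') ι j₀ hj f :=
  AlgHom.liftOfSurjective π hπ (θ₀ (R' := R') ι j₀ hj f) (hker ▸ θ₀_J₀ ι j₀ hj f)

theorem θ_π (p : PR R ι) :
    θ (R' := R') ι j₀ hj f π hπ hker (π p) = θ₀ (R' := R') ι j₀ hj f p :=
  AlgHom.liftOfSurjective_apply _ _ _ _ _

/-- `Q ⊗ R' → R'[x]/J'` -/
def Θ : Q ⊗[R] R' →ₐ[R] Qbc (R' := R') ι j₀ hj f :=
  Algebra.TensorProduct.lift (θ (R' := R') ι j₀ hj f π hπ hker)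
    (IsScalarTower.toAlgHom R R' (Qbc (R' := R') ι j₀ hj f)) (fun _ _ => Commute.all _ _)

theorem Θ_tmul (x : Q) (r' : R') :
    Θ (R' := R') ι j₀ hj f π hπ hker (x ⊗ₜ r') =
      θ (R' := R') ι j₀ hj f π hπ hker x * Ideal.Quotient.mk _ (C r') := by
  rw [Θ, Algebra.TensorProduct.lift_tmul]
  rfl

/-- `R'[x] → Q ⊗ R'` -/
def ψ₀ : PR R' ι →+* Q ⊗[R] R' :=
  eval₂Hom (Algebra.TensorProduct.includeRight : R' →ₐ[R] Q ⊗[R] R').toRingHom
    (fun v => (π (X v)) ⊗ₜ[R] (1 : R'))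

theorem ψ₀_C (r' : R') : ψ₀ (R' := R') ι π (C r') = (1 : Q) ⊗ₜ[R] r' := by
  rw [ψ₀, coe_eval₂Hom, eval₂_C]
  rfl

theorem ψ₀_X (v : Var ι) :
    ψ₀ (R' := R') ι π (X v) = π (X v) ⊗ₜ[R] (1 : R') := by
  rw [ψ₀, coe_eval₂Hom, eval₂_X]

theorem one_tmul_algebraMap (r : R) :
    ((1 : Q) ⊗ₜ[R] (algebraMap R R' r) : Q ⊗[R] R') = π (C r) ⊗ₜ[R] (1 : R') := by
  have h1 : r • (1 : Q) = π (C r) := by
    rw [← MvPolynomial.algebraMap_eq, AlgHom.commutes, Algebra.algebraMap_eq_smul_one]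
  rw [Algebra.algebraMap_eq_smul_one, ← TensorProduct.smul_tmul, h1]

include hker in
theorem ψ₀_rel (a : Fin q) :
    ψ₀ (R' := R') ι π (rel ι j₀ hj (fbc (R' := R') f) a) = 0 := by
  simp only [rel, map_add, map_mul, ψ₀_C, ψ₀_X, fbc, one_tmul_algebraMap ι π]
  rw [Algebra.TensorProduct.tmul_mul_tmul, mul_one, ← TensorProduct.add_tmul, ← map_mul,
    ← map_add]
  have : π (C (f (ι a)) + X (a, jj ι j₀ hj) * C (f j₀)) = 0 := by
    have : rel ι j₀ hj f a ∈ RingHom.ker π.toRingHom := by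
      rw [hker]
      exact Ideal.subset_span ⟨a, rfl⟩
    exact this
  rw [this, TensorProduct.zero_tmul]

include hker in
theorem ψ₀_J₀ (x : PR R' ι) (hx : x ∈ J₀ ι j₀ hj (fbc (R' := R') f)) :
    ψ₀ (R' := R') ι π x = 0 := by
  have : J₀ ι j₀ hj (fbc (R' := R') f) ≤ RingHom.ker (ψ₀ (R' := R') ι π) := by
    unfold J₀
    rw [Ideal.span_le]
    rintro _ ⟨a, rfl⟩
    exact ψ₀_rel ι j₀ hj f π hker a
  exact this hx

/-- `R'[x]/J' → Q ⊗ R'` -/
def Ψ : Qbc (R' := R') ι j₀ hj f →+* Q ⊗[R] R' :=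
  Ideal.Quotient.lift _ (ψ₀ (R' := R') ι π) (fun x hx => ψ₀_J₀ ι j₀ hj f π hker x hx)

theorem Ψ_mk (p : PR R' ι) :
    Ψ (R' := R') ι j₀ hj f π hker (Ideal.Quotient.mk _ p) = ψ₀ (R' := R') ι π p := rfl

theorem Ψ_θ₀ (p : PR R ι) :
    Ψ (R' := R') ι j₀ hj f π hker (θ₀ (R' := R') ι j₀ hj f p) = π p ⊗ₜ[R] (1 : R') := by
  have : (Ψ (R' := R') ι j₀ hj f π hker).comp (θ₀ (R' := R') ι j₀ hj f).toRingHom =
      (Algebra.TensorProduct.includeLeft : Q →ₐ[R] Q ⊗[R] R').toRingHom.comp π.toRingHom := by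
    apply MvPolynomial.ringHom_ext
    · intro r
      show Ψ (R' := R') ι j₀ hj f π hker (θ₀ (R' := R') ι j₀ hj f (C r)) = _
      rw [θ₀_C, Ψ_mk, ψ₀_C, one_tmul_algebraMap ι π]
      rfl
    · intro v
      show Ψ (R' := R') ι j₀ hj f π hker (θ₀ (R' := R') ι j₀ hj f (X v)) = _
      rw [θ₀_X, Ψ_mk, ψ₀_X]
      rfl
  exact RingHom.congr_fun this p

theorem Ψ_Θ (x : Q ⊗[R] R') :
    Ψ (R' := R') ι j₀ hj f π hker (Θ (R' := R') ι j₀ hj f π hπ hker x) = x := by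
  induction x using TensorProduct.induction_on with
  | zero => simp
  | tmul y r' =>
    obtain ⟨p, rfl⟩ := hπ y
    rw [Θ_tmul, θ_π, map_mul, Ψ_θ₀, Ψ_mk, ψ₀_C, Algebra.TensorProduct.tmul_mul_tmul, mul_one,
      one_mul]
  | add x y hx hy => rw [map_add, map_add, hx, hy]

include hι hπ hker in
/-- **`f_{j₀}` stays a nonzerodivisor after a base change keeping `f` `H_1`-regular** -/
theorem nzd_tensor (hf' : CAlgX.IsH1Regular (fbc (R' := R') f)) :
    algebraMap R (Q ⊗[R] R') (f j₀) ∈ nonZeroDivisors (Q ⊗[R] R') := by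
  have hnz := nzd_quot ι hι j₀ hj (fbc (R' := R') f) hf' _ rfl
  have himg : Θ (R' := R') ι j₀ hj f π hπ hker (algebraMap R (Q ⊗[R] R') (f j₀)) =
      algebraMap R' (Qbc (R' := R') ι j₀ hj f) (fbc (R' := R') f j₀) := by
    rw [AlgHom.commutes, IsScalarTower.algebraMap_apply R R' (Qbc (R' := R') ι j₀ hj f)]
  rw [mem_nonZeroDivisors_iff_right]
  intro x hx
  have h1 := congrArg (Θ (R' := R') ι j₀ hj f π hπ hker) hx
  rw [map_mul, map_zero, himg] at h1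
  have h2 := (mem_nonZeroDivisors_iff_right.1 hnz) _ h1
  rw [← Ψ_Θ ι j₀ hj f π hπ hker x, h2, map_zero]


include hj hker in
/-- the image of the ideal in a chart algebra is generated by `f_{j₀}` -/
theorem map_span_gen :
    (Ideal.span (Set.range f)).map (algebraMap R Q) = Ideal.span {algebraMap R Q (f j₀)} := by
  apply le_antisymm
  · rw [Ideal.map_span, Ideal.span_le]
    rintro _ ⟨_, ⟨l, rfl⟩, rfl⟩
    rw [SetLike.mem_coe, Ideal.mem_span_singleton']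
    by_cases hl : l = j₀
    · exact ⟨1, by rw [hl, one_mul]⟩
    · obtain ⟨a, rfl⟩ := (hj l).2 hl
      refine ⟨-π (X (a, jj ι j₀ hj)), ?_⟩
      have h1 : ∀ r : R, algebraMap R Q r = π (C r) := fun r => by
        rw [← MvPolynomial.algebraMap_eq, AlgHom.commutes]
      rw [h1, h1, ← map_neg, ← map_mul, eq_comm, ← sub_eq_zero, ← map_sub]
      have h2 : C (f (ι a)) - -X (a, jj ι j₀ hj) * C (f j₀) = rel ι j₀ hj f a := by
        simp only [rel]; ring
      rw [h2]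
      have h3 : rel ι j₀ hj f a ∈ RingHom.ker π.toRingHom := by
        rw [hker]
        exact Ideal.subset_span ⟨a, rfl⟩
      exact h3
  · rw [Ideal.span_le, Set.singleton_subset_iff]
    exact Ideal.mem_map_of_mem _ (Ideal.subset_span ⟨j₀, rfl⟩)

end BC


section Good
open Groth.Agent.Lib.Helper5.Grass.GrRep
variable {A : Type u} [CommRing A] {n : ℕ} (f : Fin n → A)

/-- a chart algebra `Q` of the blow-up in `f` is good: after any base change keeping `f`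
`H_1`-regular the inverse image of the ideal is generated by a nonzerodivisor -/
def GoodChart (Q : Type u) [CommRing Q] [Algebra A Q] : Prop :=
  ∀ (A' : Type u) [CommRing A'] [Algebra A A'],
    CAlgX.IsH1Regular (fun l => algebraMap A A' (f l)) →
    ∃ t ∈ nonZeroDivisors (Q ⊗[A] A'),
      (Ideal.span (Set.range f)).map (algebraMap A (Q ⊗[A] A')) = Ideal.span {t}

theorem goodChart_of_pres {q : ℕ} (ι : Fin q → Fin n) (hι : Function.Injective ι)
    (j₀ : Fin n) (hj : ∀ l, l ∈ Set.range ι ↔ l ≠ j₀)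
    {Q : Type u} [CommRing Q] [Algebra A Q] (π : PR A ι →ₐ[A] Q)
    (hπ : Function.Surjective π) (hker : RingHom.ker π.toRingHom = J₀ ι j₀ hj f) :
    GoodChart f Q := by
  intro A' _ _ hf'
  refine ⟨algebraMap A (Q ⊗[A] A') (f j₀), nzd_tensor ι hι j₀ hj f π hπ hker hf', ?_⟩
  have h1 := map_span_gen ι j₀ hj f π hker
  have h2 : algebraMap A (Q ⊗[A] A') =
      (Algebra.TensorProduct.includeLeft : Q →ₐ[A] Q ⊗[A] A').toRingHom.comp
        (algebraMap A Q) := by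
    ext r
    rfl
  rw [h2, ← Ideal.map_map, h1, Ideal.map_span, Set.image_singleton]
  rfl

theorem goodChart_Qch (hn : 1 ≤ n) (i : Idx n (n - 1)) : GoodChart f (Qch (vq f) i) := by
  obtain ⟨j₀, hj⟩ := exists_missing hn i
  refine goodChart_of_pres f (emb i) (emb_inj i) j₀ hj (πch (vq f) i)
    (Ideal.Quotient.mkₐ_surjective _ _) ?_
  rw [← Jch_eq f i j₀ hj]
  exact Ideal.Quotient.mkₐ_ker A _

end Good

end Groth.Agent.Lib.Helper5.BlowBC

end
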