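import Mathlib
import Groth.Agent.Lib.Helper5.BlowBC.BCAlg
import Groth.Agent.Lib.Helper5.BlowGr.Main

/-!
# Charts of the blowing up of a scheme in an ideal locally generated by an `H_1`-regular sequence
(helper5)
-/

set_option autoImplicit false
universe u
open CategoryTheory CategoryTheory.Limits AlgebraicGeometry TopologicalSpace Opposite
open TensorProduct

noncomputable section

namespace Groth.Agent.Lib.Helper5.BlowBC

open Groth.Agent.Lib.Helper5.Grass.Pts Groth.Agent.Lib.Helper5.Grass.Pts2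
  Groth.Agent.Lib.Helper5.Grass.PtsLoc Groth.Agent.Lib.Helper5.Grass.AffRep
  Groth.Agent.Lib.Helper5.Grass.GrRep
  Groth.Agent.Lib.Helper5.BlowGr Groth.Agent.Lib.Helper5.BlowGr.Charts
  Groth.Agent.Lead.Blow Groth.Agent.Helper4

/-- the pullback of an ideal sheaf to the spectrum of an affine open (lead, `FinBir2`) -/
theorem comap_fromSpec {Y : Scheme.{u}} (𝓘 : Y.IdealSheafData) (V : Y.affineOpens) :
    𝓘.comap V.2.fromSpec = specIdeal (A := Γ(Y, V.1)) (𝓘.ideal V) := by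
  rw [IdealComap.eq_ofIdealTop (𝓘.comap V.2.fromSpec)]
  unfold specIdeal
  congr 1
  have hle : (⊤ : (Spec Γ(Y, V.1)).Opens) ≤ V.2.fromSpec ⁻¹ᵁ V.1 := by
    rw [V.2.fromSpec_preimage_self]
  rw [IdealComap.ideal_comap_eq_map V.2.fromSpec 𝓘 ⟨⊤, isAffineOpen_top _⟩ V hle]
  congr 1
  rw [Scheme.Hom.appLE, V.2.fromSpec_app_self, Category.assoc, ← Functor.map_comp]
  have : ∀ (g : (op (⊤ : (Spec Γ(Y, V.1)).Opens)) ⟶ op ⊤),
      (Spec Γ(Y, V.1)).presheaf.map g = 𝟙 _ := by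
    intro g
    have : g = 𝟙 _ := Subsingleton.elim _ _
    rw [this]
    exact (Spec Γ(Y, V.1)).presheaf.map_id _
  rw [this, Category.comp_id]
  rfl

section Charts
variable {X B : Scheme.{u}} (𝓘 : X.IdealSheafData) (b : B ⟶ X) (hb : BlowUp.IsBlowUp b 𝓘)
  (U : X.affineOpens) {n : ℕ} (hn : 1 ≤ n) (f : Fin n → Γ(X, U.1))
  (hf : CAlgX.IsH1Regular f) (hI : 𝓘.ideal U = Ideal.span (Set.range f))

include hb hn hf hI in
/-- **charts of the blow-up over an affine open on which the centre is generated by an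
`H_1`-regular sequence** -/
theorem exists_chart (y : B) (hy : b y ∈ U.1) :
    ∃ (Q : Type u) (_ : CommRing Q) (_ : Algebra Γ(X, U.1) Q)
      (c : Spec (CommRingCat.of Q) ⟶ B), IsOpenImmersion c ∧ y ∈ Set.range c ∧
        c ≫ b = Spec.map (CommRingCat.ofHom (algebraMap Γ(X, U.1) Q)) ≫ U.2.fromSpec ∧
        GoodChart f Q := by
  -- the restricted blow-up
  have sq : IsPullback (b ⁻¹ᵁ U.1).ι (b ∣_ U.1) b U.1.ι := (isPullback_morphismRestrict b U.1).flip
  have hbU : BlowUp.IsBlowUp (b ∣_ U.1) (𝓘.comap U.1.ι) := isBlowUp_of_isPullback 𝓘 sq hb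
  have hβ := isBlowUp_comp_iso (𝓘.comap U.1.ι) (b ∣_ U.1) U.2.isoSpec hbU
  have hid : (𝓘.comap U.1.ι).comap U.2.isoSpec.inv =
      specIdeal (A := Γ(X, U.1)) (Ideal.span (Set.range f)) := by
    rw [← Scheme.IdealSheafData.comap_comp, ← hI, ← comap_fromSpec]
    rfl
  rw [hid] at hβ
  obtain ⟨Z, e, he⟩ := exists_rep_quot (k := n - 1) (vq f) (vq_surjective f)
  obtain ⟨θ, hθ⟩ := exists_iso_of_isBlowUp _ _ Z.hom hβ (isBlowUp_X f Z e he hn hf)
  -- the point
  obtain ⟨i, hi⟩ := exists_mem_range_jc Z e he (PM (vq f)) (νMf (vq f) (vq_surjective f))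
    (hcov_M (vq f) (vq_surjective f)) (θ.hom (⟨y, hy⟩ : ↥(b ⁻¹ᵁ U.1)))
  haveI := isOpenImmersion_jc Z e he (PM (vq f)) (νMf (vq f) (vq_surjective f))
    (hinj_M (vq f) (vq_surjective f)) (hopen_M (vq f) (vq_surjective f)) i
  have hw := jc_w Z e (PM (vq f)) (νMf (vq f) (vq_surjective f)) i
  refine ⟨Qch (vq f) i, inferInstance, inferInstance,
    (jc Z e (PM (vq f)) (νMf (vq f) (vq_surjective f)) i).left ≫ θ.inv ≫ (b ⁻¹ᵁ U.1).ι,
    inferInstance, ?_, ?_, goodChart_Qch f hn i⟩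
  · obtain ⟨z, hz⟩ := hi
    refine ⟨z, ?_⟩
    rw [Scheme.Hom.comp_apply, Scheme.Hom.comp_apply, hz, ← Scheme.Hom.comp_apply θ.hom θ.inv,
      Iso.hom_inv_id]
    rfl
  · rw [Category.assoc, Category.assoc, ← morphismRestrict_ι]
    have h1 : θ.inv ≫ (b ∣_ U.1) = Z.hom ≫ U.2.isoSpec.inv := by
      rw [Iso.inv_comp_eq, ← Category.assoc, hθ, Category.assoc, Iso.hom_inv_id, Category.comp_id]
    rw [← Category.assoc θ.inv, h1, Category.assoc, ← Category.assoc _ Z.hom, hw]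
    rfl

end Charts

end Groth.Agent.Lib.Helper5.BlowBC

end
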