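import Mathlib
import Groth.Agent.Lib.Helper5.BlowBC.Geo1
import Groth.Agent.Lib.Lead.Blow6

/-!
# Base change of the blowing up in an ideal locally generated by `H_1`-regular sequences
(helper5)
-/

set_option autoImplicit false
universe u
open CategoryTheory CategoryTheory.Limits AlgebraicGeometry TopologicalSpace Opposite
open TensorProduct

noncomputable section

namespace Groth.Agent.Lib.Helper5.BlowBC

open Groth.Agent.Lead.Blow Groth.Agent.Helper4

/-- away from the support every ideal sheaf is effective Cartier -/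
theorem exists_open_of_not_mem_support {P : Scheme.{u}} (𝓙 : P.IdealSheafData) (p : P)
    (hp : p ∉ 𝓙.support) :
    ∃ (W : Scheme.{u}) (j : W ⟶ P), IsOpenImmersion j ∧ p ∈ Set.range j ∧
      BlowUp.IsEffCartierIdeal (𝓙.comap j) := by
  let O : P.Opens := ⟨(𝓙.support : Set P)ᶜ, 𝓙.support.isClosed.isOpen_compl⟩
  refine ⟨O, O.ι, inferInstance, ?_, ?_⟩
  · rw [Scheme.Opens.range_ι]
    exact hp
  · have h1 : (𝓙.comap O.ι).support = ⊥ := by
      rw [Scheme.IdealSheafData.support_comap]
      ext z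
      simp only [Closeds.coe_preimage, Set.mem_preimage, SetLike.mem_coe, Closeds.coe_bot,
        Set.mem_empty_iff_false, iff_false]
      exact z.2
    rw [(Scheme.IdealSheafData.support_eq_bot_iff _).1 h1]
    exact EffCartier.top

/-- the chart-level statement -/
theorem isEffCartier_chart (A Q A' : Type u) [CommRing A] [CommRing Q] [CommRing A']
    [Algebra A Q] [Algebra A A'] (I : Ideal A) (t : Q ⊗[A] A')
    (ht : t ∈ nonZeroDivisors (Q ⊗[A] A'))
    (hspan : I.map (algebraMap A (Q ⊗[A] A')) = Ideal.span {t}) :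
    BlowUp.IsEffCartierIdeal ((specIdeal (I.map (algebraMap A Q))).comap
      (pullback.fst (Spec.map (CommRingCat.ofHom (algebraMap A Q)))
        (Spec.map (CommRingCat.ofHom (algebraMap A A'))))) := by
  apply isEffCartier_of_openImmersions
  intro x
  refine ⟨_, (pullbackSpecIso A Q A').inv, inferInstance,
    ⟨(pullbackSpecIso A Q A').hom x, ?_⟩, ?_⟩
  · rw [← Scheme.Hom.comp_apply, Iso.hom_inv_id]
    rfl
  · rw [← Scheme.IdealSheafData.comap_comp, pullbackSpecIso_inv_fst, comap_SpecMap,
      Ideal.map_map]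
    exact isEffCartier_specIdeal _ t ht hspan

section Main
variable {X X' B : Scheme.{u}} (𝓘 : X.IdealSheafData) (g : X' ⟶ X) (b : B ⟶ X)
  (hb : BlowUp.IsBlowUp b 𝓘)
  (hloc : ∀ x : X, x ∈ 𝓘.support → ∃ U : X.affineOpens, x ∈ U.1 ∧
    ∃ (n : ℕ) (f : Fin n → Γ(X, U.1)), CAlgX.IsH1Regular f ∧
      𝓘.ideal U = Ideal.span (Set.range f) ∧
      ∀ (V : X'.affineOpens) (e : V.1 ≤ g ⁻¹ᵁ U.1),
        CAlgX.IsH1Regular (fun l => (g.appLE U.1 V.1 e).hom (f l)))

include hb hloc in
/-- the inverse image of the centre on the base change of the blow-up is effective Cartier -/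
theorem isEffCartier_pullback :
    BlowUp.IsEffCartierIdeal (𝓘.comap (pullback.fst b g ≫ b)) := by
  apply isEffCartier_of_openImmersions
  intro p
  by_cases hx : (pullback.fst b g ≫ b) p ∈ 𝓘.support
  · obtain ⟨U, hxU, n, f, hf, hI, hV⟩ := hloc _ hx
    have hxU' : b (pullback.fst b g p) ∈ U.1 := by
      rw [← Scheme.Hom.comp_apply]; exact hxU
    -- the case `n = 0` is impossible
    have hn : 1 ≤ n := by
      by_contra hn0
      have hn0' : n = 0 := by omega
      subst hn0'
      have hI0 : 𝓘.ideal U = ⊥ := by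
        rw [hI, Set.range_eq_empty, Ideal.span_empty]
      obtain ⟨W, hWaff, hyW, hWU⟩ := Opens.isBasis_iff_nbhd.1 B.isBasis_affineOpens
        (show pullback.fst b g p ∈ b ⁻¹ᵁ U.1 from hxU')
      refine false_of_ideal_eq_bot (𝓘.comap b) hb.1 ⟨W, hWaff⟩ _ hyW ?_
      rw [IdealComap.ideal_comap_eq_map b 𝓘 ⟨W, hWaff⟩ U hWU, hI0, Ideal.map_bot]
    -- an affine neighbourhood of the second coordinate
    have hp2 : pullback.snd b g p ∈ g ⁻¹ᵁ U.1 := by
      show g (pullback.snd b g p) ∈ U.1
      rw [← Scheme.Hom.comp_apply, ← pullback.condition]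
      exact hxU
    obtain ⟨V, hVaff, hpV, hVU⟩ := Opens.isBasis_iff_nbhd.1 X'.isBasis_affineOpens hp2
    letI : Algebra Γ(X, U.1) Γ(X', V) := (g.appLE U.1 V hVU).hom.toAlgebra
    obtain ⟨Q, _, _, c, hc, hyc, hcb, hgood⟩ :=
      exists_chart 𝓘 b hb U hn f hf hI (pullback.fst b g p) hxU'
    obtain ⟨t, ht, hspan⟩ := hgood Γ(X', V) (hV ⟨V, hVaff⟩ hVU)
    have e₂ : Spec.map (CommRingCat.ofHom (algebraMap Γ(X, U.1) Γ(X', V))) ≫ U.2.fromSpec =
        hVaff.fromSpec ≫ g := IsAffineOpen.SpecMap_appLE_fromSpec g U.2 hVaff hVU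
    refine ⟨_, pullback.map (Spec.map (CommRingCat.ofHom (algebraMap Γ(X, U.1) Q)))
      (Spec.map (CommRingCat.ofHom (algebraMap Γ(X, U.1) Γ(X', V)))) b g c hVaff.fromSpec
      U.2.fromSpec hcb.symm e₂, inferInstance, ?_, ?_⟩
    · rw [Scheme.Pullback.range_map]
      refine ⟨hyc, ?_⟩
      rw [Set.mem_preimage, IsAffineOpen.range_fromSpec]
      exact hpV
    · rw [← Scheme.IdealSheafData.comap_comp, ← Category.assoc, pullback.lift_fst,
        Category.assoc, hcb, ← Category.assoc, Scheme.IdealSheafData.comap_comp,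
        Scheme.IdealSheafData.comap_comp, comap_fromSpec, hI, comap_SpecMap]
      exact isEffCartier_chart Γ(X, U.1) Q Γ(X', V) _ t ht hspan
  · exact exists_open_of_not_mem_support _ p (by
      rw [Scheme.IdealSheafData.support_comap]
      exact hx)

include hb hloc in
/-- **the base change of the blow-up is the blow-up of the inverse image ideal** -/
theorem isBlowUp_pullback : BlowUp.IsBlowUp (pullback.snd b g) (𝓘.comap g) := by
  constructor
  · rw [← Scheme.IdealSheafData.comap_comp, ← pullback.condition]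
    exact isEffCartier_pullback 𝓘 g b hb hloc
  · intro Y y hy
    rw [← Scheme.IdealSheafData.comap_comp] at hy
    obtain ⟨h₀, hh₀, huniq⟩ := hb.2 Y (y ≫ g) hy
    refine ⟨pullback.lift h₀ y hh₀, pullback.lift_snd _ _ _, fun h' hh' => ?_⟩
    apply pullback.hom_ext
    · rw [pullback.lift_fst]
      apply huniq
      rw [Category.assoc, pullback.condition, ← Category.assoc, hh']
    · rw [pullback.lift_snd, hh']

end Main

end Groth.Agent.Lib.Helper5.BlowBC

end
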